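import Groth.Agent.Lib.KRes19.Tower
import Mathlib.Algebra.Homology.HomotopyCategory.KInjective
import Mathlib.Algebra.Homology.Embedding.CochainComplex

/-! Existence of K-injective resolutions when countable products are exact. -/

set_option autoImplicit false
universe v u

open CategoryTheory CategoryTheory.Limits Opposite ZeroObject
open HomologicalComplex
open CochainComplex (mappingCone)

namespace GrothLib.KRes19

variable {A : Type u} [Category.{v} A] [Abelian A] [EnoughInjectives A] (K : CochainComplex A ℤ)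

/-- A stage of the tower. -/
structure Stage (n : ℕ) where
  /-- The complex. -/
  I : CochainComplex A ℤ
  ge : I.IsStrictlyGE (-2 * (n : ℤ))
  inj : ∀ p, Injective (I.X p)
  /-- The map. -/
  g : K ⟶ I
  qis : n ≠ 0 → ∀ p : ℤ, -2 * (n : ℤ) < p → QuasiIsoAt g p

/-- The initial stage. -/
noncomputable def start : Stage K 0 where
  I := 0
  ge := (CochainComplex.isStrictlyGE_iff _ _).2 fun i _ =>
    (eval A (ComplexShape.up ℤ) i).map_isZero (isZero_zero _)
  inj p := ((eval A (ComplexShape.up ℤ) p).map_isZero (isZero_zero (CochainComplex A ℤ))).injective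
  g := 0
  qis h := absurd rfl h

theorem exists_next {n : ℕ} (S : Stage K n) :
    ∃ (S' : Stage K (n + 1)) (t : S'.I ⟶ S.I), S'.g ≫ t = S.g ∧ ∀ p, IsSplitEpi (t.f p) := by
  obtain ⟨b, hb⟩ : ∃ b : ℤ, b = -2 * (n : ℤ) - 1 := ⟨_, rfl⟩
  obtain ⟨c, hc⟩ : ∃ c : ℤ, c + 1 = b := ⟨b - 1, by omega⟩
  have := S.ge
  have : S.I.IsStrictlyGE b := S.I.isStrictlyGE_of_ge b (-2 * (n : ℤ)) (by omega)
  have : (CochainComplex.truncGE K b).IsStrictlyGE (c + 1) := by rw [hc]; infer_instance
  have : S.I.IsStrictlyGE c := S.I.isStrictlyGE_of_ge c b (by omega)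
  let φ : CochainComplex.truncGE K b ⟶ S.I :=
    CochainComplex.truncGEMap S.g b ≫ inv (S.I.πTruncGE b)
  have hφ : K.πTruncGE b ≫ φ = S.g := by
    simp only [φ, CochainComplex.πTruncGE_naturality_assoc, IsIso.hom_inv_id, Category.comp_id]
  obtain ⟨K', hK', ι, π, _, _, hπ, hfac⟩ := CochainComplex.Plus.modelCategoryQuillen.cm5a φ c
  have hsplit : ∀ p, IsSplitEpi (π.f p) ∧ Injective (K'.X p) := fun p => by
    obtain ⟨he, hi⟩ := hπ p
    have := S.inj p
    let T : ShortComplex A := ShortComplex.mk (kernel.ι (π.f p)) (π.f p) (kernel.condition _)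
    have hT : T.ShortExact :=
      { exact := ShortComplex.exact_kernel _
        mono_f := inferInstanceAs (Mono (kernel.ι _))
        epi_g := he }
    have : Injective T.X₁ := hi
    obtain ⟨σ⟩ : Nonempty T.Splitting := ⟨hT.splittingOfInjective⟩
    exact ⟨IsSplitEpi.mk' σ.splitEpi_g,
      Injective.of_iso σ.isoBinaryBiproduct.symm (show Injective (T.X₁ ⊞ T.X₃) from by have : Injective T.X₃ := S.inj p; infer_instance)⟩
  refine ⟨⟨K', ?_, fun p => (hsplit p).2, K.πTruncGE b ≫ ι, fun _ p hp => ?_⟩, π, ?_, fun p => (hsplit p).1⟩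
  · rw [show -2 * ((n + 1 : ℕ) : ℤ) = c by omega]
    exact hK'
  · have : QuasiIsoAt (K.πTruncGE b) p := by
      exact CochainComplex.quasiIsoAt_πTruncGE K b p (by omega)
    infer_instance
  · rw [Category.assoc, hfac, hφ]

/-- The stages. -/
noncomputable def stage : ∀ n, Stage K n
  | 0 => start K
  | n + 1 => (exists_next K (stage n)).choose

/-- The transition maps. -/
noncomputable def trans (n : ℕ) : (stage K (n + 1)).I ⟶ (stage K n).I :=
  (exists_next K (stage K n)).choose_spec.choose

theorem trans_spec (n : ℕ) : (stage K (n + 1)).g ≫ trans K n = (stage K n).g ∧ ∀ p, IsSplitEpi ((trans K n).f p) :=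
  (exists_next K (stage K n)).choose_spec.choose_spec

/-- The tower. -/
noncomputable def tower : ℕᵒᵖ ⥤ CochainComplex A ℤ :=
  Functor.ofOpSequence (X := fun n => (stage K n).I) (trans K)

variable [HasLimitsOfShape (Discrete ℕ) A] [HasExactLimitsOfShape (Discrete ℕ) A]

theorem exists_kInjective :
    ∃ (I : CochainComplex A ℤ) (f : K ⟶ I), I.IsKInjective ∧ QuasiIso f := by
  have := hasLimitsOfShape_natOp (A := A)
  let c : Cone (tower K) :=
    { pt := K
      π := NatTrans.ofOpSequence (fun n => (stage K n).g) (fun n => by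
        simp only [Functor.const_obj_map, tower, Functor.ofOpSequence_map_homOfLE_succ]
        exact (Category.id_comp _).trans (trans_spec K n).1.symm) }
  have ht : ∀ (n : ℕ) (p : ℤ), IsSplitEpi ((t (tower K) n).f p) := fun n p => by
    rw [show t (tower K) n = trans K n from Functor.ofOpSequence_map_homOfLE_succ _ n]
    exact (trans_spec K n).2 p
  refine ⟨limit (tower K), limit.lift _ c, ?_, ?_⟩
  · refine Groth.Agent.S0489.result (tower K) (fun n => ?_) ht
    have := (stage K n).ge
    have := (stage K n).inj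
    exact CochainComplex.isKInjective_of_injective (stage K n).I (-2 * (n : ℤ))
  · refine quasiIso_of_tower (tower K) _ ht fun p => ⟨p.natAbs + 1, fun n hn => ?_⟩
    rw [show gc (tower K) (limit.lift _ c) n = (stage K n).g from limit.lift_π _ _]
    exact (stage K n).qis (by omega) p (by omega)

end GrothLib.KRes19
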