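import Groth.Agent.S0489
import Mathlib.Algebra.Homology.Factorizations.CM5a
import Mathlib.Algebra.Homology.Refinements
import Mathlib.CategoryTheory.Abelian.GrothendieckAxioms.Basic
import Mathlib.CategoryTheory.Abelian.Refinements
import Mathlib.CategoryTheory.Limits.Constructions.LimitsOfProductsAndEqualizers
import Mathlib.CategoryTheory.Functor.OfSequence

/-! K-injective resolutions by towers when countable products are exact. -/

set_option autoImplicit false
universe v u

open CategoryTheory CategoryTheory.Limits Opposite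
open HomologicalComplex

namespace GrothLib.KRes19

variable {A : Type u} [Category.{v} A] [Abelian A]

theorem hasLimitsOfShape_natOp [HasLimitsOfShape (Discrete ℕ) A] : HasLimitsOfShape ℕᵒᵖ A := by
  have h1 : HasLimitsOfShape (Discrete ℕᵒᵖ) A :=
    hasLimitsOfShape_of_equivalence (Discrete.equivalence (equivToOpposite (α := ℕ)))
  have : Infinite (Σ p : ℕᵒᵖ × ℕᵒᵖ, p.1 ⟶ p.2) :=
    Infinite.of_injective (fun n : ℕ => ⟨(op n, op n), 𝟙 _⟩) fun a b h => by
      simpa using congrArg (fun q => q.1.1.unop) h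
  have : Countable (Σ p : ℕᵒᵖ × ℕᵒᵖ, p.1 ⟶ p.2) := by
    have : Countable ℕᵒᵖ := Countable.of_equiv ℕ equivToOpposite
    have : ∀ p : ℕᵒᵖ × ℕᵒᵖ, Subsingleton (p.1 ⟶ p.2) := fun p => inferInstance
    infer_instance
  obtain ⟨e⟩ := nonempty_equiv_of_countable (α := ℕ) (β := Σ p : ℕᵒᵖ × ℕᵒᵖ, p.1 ⟶ p.2)
  have h2 : HasLimitsOfShape (Discrete (Σ p : ℕᵒᵖ × ℕᵒᵖ, p.1 ⟶ p.2)) A :=
    hasLimitsOfShape_of_equivalence (Discrete.equivalence e)
  exact ⟨fun F => hasLimit_of_equalizer_and_product F⟩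

variable [HasLimitsOfShape (Discrete ℕ) A] [HasExactLimitsOfShape (Discrete ℕ) A]

/-- Countably many refinements can be performed at once. -/
theorem refine_all {T : A} (P : ∀ n : ℕ, ∀ ⦃T' : A⦄, (T' ⟶ T) → Prop)
    (h : ∀ n, ∃ (T' : A) (π : T' ⟶ T) (_ : Epi π), P n π) :
    ∃ (T' : A) (π : T' ⟶ T) (_ : Epi π), ∀ n, ∃ (T₁ : A) (π₁ : T₁ ⟶ T) (r : T' ⟶ T₁), P n π₁ ∧ r ≫ π₁ = π := by
  choose T' π hπ hP using h
  let φ : Discrete.functor T' ⟶ Discrete.functor fun _ : ℕ => T := Discrete.natTrans fun n => π n.as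
  have : ∀ n, Epi (φ.app n) := fun n => hπ n.as
  have : Epi φ := NatTrans.epi_of_epi_app φ
  have : Epi (Limits.Pi.map π) := (inferInstance : Epi (lim.map φ))
  exact ⟨pullback (Limits.Pi.map π) (Pi.lift fun _ => 𝟙 T), pullback.snd _ _, inferInstance, fun n =>
    ⟨T' n, π n, pullback.fst _ _ ≫ Pi.π _ n, hP n, by
      rw [Category.assoc, ← Limits.Pi.map_π, reassoc_of% pullback.condition, Pi.lift_π, Category.comp_id]⟩⟩

section Limit

variable (I : ℕᵒᵖ ⥤ CochainComplex A ℤ)

/-- The transition map. -/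
abbrev t (n : ℕ) : I.obj (op (n + 1)) ⟶ I.obj (op n) := I.map (homOfLE (Nat.le_succ n)).op

/-- The transition maps between any two stages. -/
abbrev tt {m n : ℕ} (h : m ≤ n) : I.obj (op n) ⟶ I.obj (op m) := I.map (homOfLE h).op

theorem tt_tt {a b c : ℕ} (h : a ≤ b) (h' : b ≤ c) : tt I h' ≫ tt I h = tt I (h.trans h') := by
  rw [← I.map_comp]; rfl

variable [HasLimitsOfShape ℕᵒᵖ A] {K : CochainComplex A ℤ} (g : K ⟶ limit I)

theorem π_tt {m n : ℕ} (h : m ≤ n) : limit.π I (op n) ≫ tt I h = limit.π I (op m) := limit.w I _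

/-- The component of `g` at a stage. -/
noncomputable abbrev gc (n : ℕ) : K ⟶ I.obj (op n) := g ≫ limit.π I (op n)

theorem gc_tt {m n : ℕ} (h : m ≤ n) : gc I g n ≫ tt I h = gc I g m := by
  rw [Category.assoc, π_tt]

variable (hsplit : ∀ (n : ℕ) (m : ℤ), IsSplitEpi ((t I n).f m))
  (hqis : ∀ p : ℤ, ∃ N : ℕ, ∀ n, N ≤ n → QuasiIsoAt (gc I g n) p)

include hsplit in
/-- Solving `x n - x (n+1) ≫ t = e n`. -/
theorem solve (N : ℕ) (p : ℤ) {T : A} (e : ∀ n, T ⟶ (I.obj (op (N + n))).X p) :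
    ∃ x : ∀ n, T ⟶ (I.obj (op (N + n))).X p,
      ∀ n, x n - x (n + 1) ≫ (t I (N + n)).f p = e n := by
  have := fun n => hsplit (N + n) p
  let x : ∀ n, T ⟶ (I.obj (op (N + n))).X p := fun n =>
    Nat.rec (motive := fun n => T ⟶ (I.obj (op (N + n))).X p) 0
      (fun n xn => (xn - e n) ≫ section_ ((t I (N + n)).f p)) n
  refine ⟨x, fun n => ?_⟩
  change x n - ((x n - e n) ≫ section_ ((t I (N + n)).f p)) ≫ (t I (N + n)).f p = e n
  rw [Category.assoc, IsSplitEpi.id, Category.comp_id, sub_sub_cancel]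


/-- A compatible family from stage `N` on gives an element of the limit. -/
theorem exists_lift_from (N : ℕ) (p : ℤ) {T : A} (z : ∀ n, T ⟶ (I.obj (op (N + n))).X p)
    (hz : ∀ n, z (n + 1) ≫ (t I (N + n)).f p = z n) :
    ∃ Z : T ⟶ (limit I).X p, ∀ n, Z ≫ (limit.π I (op n)).f p = z n ≫ (tt I (Nat.le_add_left n N)).f p := by
  let F := I ⋙ eval A (ComplexShape.up ℤ) p
  let c : Cone F :=
    { pt := T
      π := NatTrans.ofOpSequence (fun n => z n ≫ (tt I (Nat.le_add_left n N)).f p) (fun n => by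
        simp only [Functor.const_obj_obj, Functor.const_obj_map, Category.id_comp]
        have e1 : (tt I (Nat.le_add_left (n + 1) N)).f p ≫ (t I n).f p =
            (t I (N + n)).f p ≫ (tt I (Nat.le_add_left n N)).f p := by
          rw [← comp_f, ← comp_f, tt_tt, tt_tt]
        change z n ≫ _ = (z (n + 1) ≫ _) ≫ (t I n).f p
        refine (congrArg (· ≫ (tt I (Nat.le_add_left n N)).f p) (hz n)).symm.trans ?_
        exact (Category.assoc _ _ _).trans ((congrArg (z (n + 1) ≫ ·) e1.symm).trans (Category.assoc _ _ _).symm)) }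
  let hl := isLimitOfPreserves (eval A (ComplexShape.up ℤ) p) (limit.isLimit I)
  exact ⟨hl.lift c, fun n => hl.fac c (op n)⟩

include hsplit hqis in
theorem quasiIso_of_tower : QuasiIso g where
  quasiIsoAt p := by
    obtain ⟨i, rfl⟩ : ∃ i, p = i + 1 := ⟨p - 1, by omega⟩
    obtain ⟨N₁, h₁⟩ := hqis (i + 1)
    obtain ⟨N₂, h₂⟩ := hqis i
    obtain ⟨N, hN₁, hN₂⟩ : ∃ N, N₁ ≤ N ∧ N₂ ≤ N := ⟨max N₁ N₂, le_max_left _ _, le_max_right _ _⟩
    have hm : ∀ n, N ≤ n → Mono (homologyMap (gc I g n) (i + 1)) := fun n hn => by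
      have := h₁ n (hN₁.trans hn); infer_instance
    have he : ∀ n, N ≤ n → Epi (homologyMap (gc I g n) (i + 1)) := fun n hn => by
      have := h₁ n (hN₁.trans hn); infer_instance
    have he' : ∀ n, N ≤ n → Epi (homologyMap (gc I g n) i) := fun n hn => by
      have := h₂ n (hN₂.trans hn); infer_instance
    rw [quasiIsoAt_iff_isIso_homologyMap]
    have : Mono (homologyMap g (i + 1)) := by
      have := hm N le_rfl
      rw [show homologyMap (gc I g N) (i + 1) = homologyMap g (i + 1) ≫ homologyMap (limit.π I (op N)) (i + 1)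
        from homologyMap_comp _ _ _] at this
      exact mono_of_mono _ (homologyMap (limit.π I (op N)) (i + 1))
    have : Epi (homologyMap g (i + 1)) := by
      rw [epi_homologyMap_iff_up_to_refinements g i (i + 1) (i + 1 + 1) (by simp) (by simp)]
      intro T y hy
      obtain ⟨T₁, π₁, _, x, hx, z₀, hz₀⟩ := (epi_homologyMap_iff_up_to_refinements (gc I g N) i (i + 1) (i + 1 + 1)
        (by simp) (by simp)).1 (he N le_rfl) (y ≫ (limit.π I (op N)).f (i + 1))
        (by rw [Category.assoc, Hom.comm, reassoc_of% hy, zero_comp])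
      let y' : T₁ ⟶ (limit I).X (i + 1) := π₁ ≫ y - x ≫ g.f (i + 1)
      have hy' : y' ≫ (limit I).d (i + 1) (i + 1 + 1) = 0 := by
        simp only [y', Preadditive.sub_comp, Category.assoc, hy, comp_zero, Hom.comm, reassoc_of% hx, zero_comp,
          sub_self]
      have hyN : y' ≫ (limit.π I (op N)).f (i + 1) = z₀ ≫ (I.obj (op N)).d i (i + 1) := by
        simp only [y', Preadditive.sub_comp, Category.assoc]
        rw [hz₀, comp_f, add_sub_cancel_left]
      have hex : ∀ k, ∃ (T' : A) (π : T' ⟶ T₁) (_ : Epi π), ∃ z : T' ⟶ (I.obj (op (N + k))).X i,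
          π ≫ y' ≫ (limit.π I (op (N + k))).f (i + 1) = z ≫ (I.obj (op (N + k))).d i (i + 1) := by
        intro k
        obtain ⟨T₂, π₂, _, a, ha, z, hz⟩ := (epi_homologyMap_iff_up_to_refinements (gc I g (N + k)) i (i + 1)
          (i + 1 + 1) (by simp) (by simp)).1 (he _ (Nat.le_add_right N k)) (y' ≫ (limit.π I (op (N + k))).f (i + 1))
          (by rw [Category.assoc, Hom.comm, reassoc_of% hy', zero_comp])
        have h3 : a ≫ (gc I g N).f (i + 1) =
            (π₂ ≫ z₀ - z ≫ (tt I (Nat.le_add_right N k)).f i) ≫ (I.obj (op N)).d i (i + 1) := by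
          have e := congrArg (fun w => w ≫ (tt I (Nat.le_add_right N k)).f (i + 1)) hz
          simp only [Category.assoc, Preadditive.add_comp, ← comp_f, π_tt, gc_tt, hyN] at e
          rw [Preadditive.sub_comp, Category.assoc, e, Category.assoc, Hom.comm]
          simp
        obtain ⟨T₃, π₃, _, b, hb⟩ := (mono_homologyMap_iff_up_to_refinements (gc I g N) i (i + 1) (i + 1 + 1)
          (by simp) (by simp)).1 (hm N le_rfl) a ha _ h3
        refine ⟨T₃, π₃ ≫ π₂, inferInstance, b ≫ (gc I g (N + k)).f i + π₃ ≫ z, ?_⟩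
        rw [Category.assoc, hz, Preadditive.comp_add, reassoc_of% hb, Preadditive.add_comp, Category.assoc,
          Category.assoc, ← Hom.comm]
      obtain ⟨T₂, π₂, _, hT₂⟩ := refine_all (fun k _ π => ∃ z, π ≫ y' ≫ (limit.π I (op (N + k))).f (i + 1) =
        z ≫ (I.obj (op (N + k))).d i (i + 1)) hex
      choose S₁ σ r hσ hr using hT₂
      choose z hz using hσ
      let Z : ∀ k, T₂ ⟶ (I.obj (op (N + k))).X i := fun k => r k ≫ z k
      have hZ : ∀ k, π₂ ≫ y' ≫ (limit.π I (op (N + k))).f (i + 1) = Z k ≫ (I.obj (op (N + k))).d i (i + 1) :=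
        fun k => by rw [← hr k, Category.assoc, hz k, Category.assoc]
      have hc : ∀ k, (Z k - Z (k + 1) ≫ (t I (N + k)).f i) ≫ (I.obj (op (N + k))).d i (i + 1) = 0 := by
        intro k
        rw [Preadditive.sub_comp, ← hZ k, Category.assoc, Hom.comm, ← Category.assoc (Z (k + 1))]
        erw [← hZ (k + 1)]
        simp only [Category.assoc, ← comp_f]
        erw [π_tt I (Nat.le_succ (N + k))]
        exact sub_self _
      have hdec : ∀ k, ∃ (T' : A) (π : T' ⟶ T₂) (_ : Epi π), ∃ (u : T' ⟶ K.X i) (e : T' ⟶ (I.obj (op (N + k))).X (i - 1)),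
          u ≫ K.d i (i + 1) = 0 ∧ π ≫ (Z k - Z (k + 1) ≫ (t I (N + k)).f i) =
            u ≫ (gc I g (N + k)).f i + e ≫ (I.obj (op (N + k))).d (i - 1) i := by
        intro k
        obtain ⟨T', π, hπ, u, hu, e, he⟩ := (epi_homologyMap_iff_up_to_refinements (gc I g (N + k)) (i - 1) i (i + 1)
          (by simp) (by simp)).1 (he' _ (Nat.le_add_right N k)) _ (hc k)
        exact ⟨T', π, hπ, u, e, hu, he⟩
      obtain ⟨T₃, π₃, _, hT₃⟩ := refine_all (fun k _ π => ∃ (u : _ ⟶ K.X i) (e : _ ⟶ (I.obj (op (N + k))).X (i - 1)),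
          u ≫ K.d i (i + 1) = 0 ∧ π ≫ (Z k - Z (k + 1) ≫ (t I (N + k)).f i) =
            u ≫ (gc I g (N + k)).f i + e ≫ (I.obj (op (N + k))).d (i - 1) i) hdec
      choose S₂ τ r₂ hτ hr₂ using hT₃
      choose u e hu he using hτ
      obtain ⟨ε, hε⟩ := solve I hsplit N (i - 1) (fun k => r₂ k ≫ e k)
      let v : ℕ → (T₃ ⟶ K.X i) := fun k => Nat.rec (0 : T₃ ⟶ K.X i) (fun j vj => vj - r₂ j ≫ u j) k
      have hv : ∀ k, v k ≫ K.d i (i + 1) = 0 := by
        intro k
        induction k with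
        | zero => exact zero_comp
        | succ k ih =>
          change (v k - r₂ k ≫ u k) ≫ K.d i (i + 1) = 0
          rw [Preadditive.sub_comp, ih, Category.assoc, hu, comp_zero, sub_zero]
      let W : ∀ k, T₃ ⟶ (I.obj (op (N + k))).X i := fun k =>
        π₃ ≫ Z k - v k ≫ (gc I g (N + k)).f i - ε k ≫ (I.obj (op (N + k))).d (i - 1) i
      have hW : ∀ k, W (k + 1) ≫ (t I (N + k)).f i = W k := by
        intro k
        symm
        rw [← sub_eq_zero]
        have h1 : π₃ ≫ (Z k - Z (k + 1) ≫ (t I (N + k)).f i) =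
            r₂ k ≫ u k ≫ (gc I g (N + k)).f i + (ε k - ε (k + 1) ≫ (t I (N + k)).f (i - 1)) ≫
              (I.obj (op (N + k))).d (i - 1) i := by
          rw [← hr₂ k, Category.assoc, he k, Preadditive.comp_add, hε k, Category.assoc]
        have hg' : (gc I g (N + (k + 1))).f i ≫ (t I (N + k)).f i = (gc I g (N + k)).f i := by
          rw [← comp_f]; exact congrArg (fun w => w.f i) (gc_tt I g (Nat.le_succ (N + k)))
        have hd' : (I.obj (op (N + (k + 1)))).d (i - 1) i ≫ (t I (N + k)).f i =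
            (t I (N + k)).f (i - 1) ≫ (I.obj (op (N + k))).d (i - 1) i := ((t I (N + k)).comm (i - 1) i).symm
        have hv' : v (k + 1) = v k - r₂ k ≫ u k := rfl
        simp only [W, hv', Preadditive.sub_comp, Category.assoc]
        erw [hg', hd']
        simp only [Preadditive.comp_sub, Preadditive.sub_comp, Category.assoc] at h1
        rw [show π₃ ≫ Z k = r₂ k ≫ u k ≫ (gc I g (N + k)).f i + (ε k ≫ (I.obj (op (N + k))).d (i - 1) i -
            ε (k + 1) ≫ (t I (N + k)).f (i - 1) ≫ (I.obj (op (N + k))).d (i - 1) i) +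
            π₃ ≫ Z (k + 1) ≫ (t I (N + k)).f i from sub_eq_iff_eq_add.1 h1]
        abel
      obtain ⟨L, hL⟩ := exists_lift_from I N i W hW
      refine ⟨T₃, π₃ ≫ π₂ ≫ π₁, inferInstance, π₃ ≫ π₂ ≫ x, by simp [hx], L, ?_⟩
      have key : π₃ ≫ π₂ ≫ y' = L ≫ (limit I).d i (i + 1) := by
        refine (isLimitOfPreserves (eval A (ComplexShape.up ℤ) (i + 1)) (limit.isLimit I)).hom_ext fun j => ?_
        obtain ⟨n⟩ := j
        change (π₃ ≫ π₂ ≫ y') ≫ (limit.π I (op n)).f (i + 1) = (L ≫ (limit I).d i (i + 1)) ≫ (limit.π I (op n)).f (i + 1)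
        rw [Category.assoc L, ← Hom.comm, ← Category.assoc L, hL, Category.assoc (W n), Hom.comm,
          ← Category.assoc (W n)]
        have : W n ≫ (I.obj (op (N + n))).d i (i + 1) = π₃ ≫ π₂ ≫ y' ≫ (limit.π I (op (N + n))).f (i + 1) := by
          simp only [W, Preadditive.sub_comp, Category.assoc, d_comp_d, comp_zero, sub_zero, hZ]
          rw [Hom.comm, reassoc_of% hv, zero_comp, sub_zero]
        rw [this]
        simp only [Category.assoc, ← comp_f, π_tt]
      simp only [y', Preadditive.comp_sub] at key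
      simp only [Category.assoc]
      exact sub_eq_iff_eq_add'.1 key
    exact isIso_of_mono_of_epi _

end Limit

end GrothLib.KRes19
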